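import Mathlib

/-!
# Algebraic field extensions are rigid in reduced connected algebras
-/

set_option autoImplicit false

namespace RigidFld19

theorem eq_of_root {S L : Type*} [CommRing S] [Field L] (ψ : S →+* L)
    (hidem : ∀ e : S, IsIdempotentElem e → e = 0 ∨ e = 1) {p : Polynomial S} {s t : S}
    (hs : p.eval s = 0) (ht : p.eval t = 0) (hu : IsUnit (p.derivative.eval t)) (hψ : ψ s = ψ t) :
    s = t := by
  obtain ⟨r, hr⟩ := Polynomial.binomExpansion p t (s - t)
  rw [add_sub_cancel, hs, ht, zero_add] at hr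
  obtain ⟨u, hu'⟩ := hu
  set d := s - t
  let w : S := -r * ↑u⁻¹
  have hd : d = d ^ 2 * w := by
    calc d = d * ((u : S) * ↑u⁻¹) := by rw [Units.mul_inv, mul_one]
      _ = d ^ 2 * w := by
        rw [hu']
        linear_combination (-(↑u⁻¹ : S)) * hr
  rcases hidem (d * w) (show d * w * (d * w) = d * w by linear_combination (-w) * hd) with h | h
  · refine sub_eq_zero.1 (show d = 0 from ?_)
    calc d = d ^ 2 * w := hd
      _ = d * (d * w) := by ring
      _ = 0 := by rw [h, mul_zero]
  · exfalso
    have h1 : (0 : L) = 1 := by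
      have h' := congrArg ψ h
      rw [map_mul, map_one, show ψ d = 0 by rw [map_sub, hψ, sub_self], zero_mul] at h'
      exact h'
    exact zero_ne_one h1

/-- Two maps from an algebraic extension into a reduced connected algebra agreeing at one point are equal. -/
theorem algHom_eq {k K S L : Type*} [Field k] [Field K] [Algebra k K] [Algebra.IsAlgebraic k K]
    [CommRing S] [IsReduced S] [Algebra k S] [Field L] (ψ : S →+* L)
    (hidem : ∀ e : S, IsIdempotentElem e → e = 0 ∨ e = 1)
    (σ τ : K →ₐ[k] S) (h : ψ.comp σ.toRingHom = ψ.comp τ.toRingHom) : σ = τ := by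
  have hsep : ∀ y : K, IsSeparable k y → σ y = τ y := fun y hy => by
    refine eq_of_root ψ hidem (p := (minpoly k y).map (algebraMap k S)) ?_ ?_ ?_ (RingHom.congr_fun h y)
    · rw [Polynomial.eval_map, ← Polynomial.aeval_def, Polynomial.aeval_algHom_apply, minpoly.aeval, map_zero]
    · rw [Polynomial.eval_map, ← Polynomial.aeval_def, Polynomial.aeval_algHom_apply, minpoly.aeval, map_zero]
    · rw [Polynomial.derivative_map, Polynomial.eval_map, ← Polynomial.aeval_def,
        Polynomial.aeval_algHom_apply]
      exact (isUnit_iff_ne_zero.2 (hy.aeval_derivative_ne_zero (minpoly.aeval k y))).map τ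
  obtain ⟨q, _⟩ := ExpChar.exists k
  have : Nontrivial S := ψ.domain_nontrivial
  have : ExpChar S q := expChar_of_injective_ringHom (algebraMap k S).injective q
  refine AlgHom.ext fun x => ?_
  obtain ⟨n, ⟨⟨y, hy⟩, hxy⟩⟩ := IsPurelyInseparable.pow_mem (separableClosure k K) q x
  have hy' : y = x ^ q ^ n := hxy
  have e := hsep _ (mem_separableClosure_iff.1 hy)
  rw [hy', map_pow, map_pow] at e
  have h0 : (σ x - τ x) ^ q ^ n = 0 := by rw [sub_pow_expChar_pow, e, sub_self]
  exact sub_eq_zero.1 (IsReduced.eq_zero _ ⟨_, h0⟩)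

end RigidFld19
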