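import Groth.Prelude.Def_AlgGrp
import Groth.Agent.Lib.RigidFld19.Basic
import Groth.Agent.Lib.AlgGrpBasic19.Basic
import Groth.Agent.Lib.AlgSpDescent.RedNoeth
import Groth.Agent.Lib.AbRigid.Connected
import Groth.Agent.Lib.GlobFun18.Sch

/-!
# Connected smooth groups act trivially on reduced zero-dimensional schemes
-/

set_option autoImplicit false
set_option backward.isDefEq.respectTransparency.types false

universe u

open CategoryTheory CategoryTheory.Limits MonoidalCategory CartesianMonoidalCategory MonObj AlgebraicGeometry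
  Opposite TopologicalSpace

noncomputable section

namespace RigidFld19

variable {k : Type u} [Field k]

/-- Maps to a reduced point from a reduced connected scheme agreeing on a section are equal. -/
theorem hom_eq_of_section {U T : Over (Spec (CommRingCat.of k))} [IsAffine U.left] [IsReduced U.left]
    [Subsingleton ↥U.left] [Nonempty ↥U.left] [LocallyOfFiniteType U.hom]
    [IsReduced T.left] [PreconnectedSpace ↥T.left] (e : U ⟶ T) (f g : T ⟶ U) (h : e ≫ f = e ≫ g) :
    f = g := by
  have : IsIntegral U.left := (isIntegral_iff_irreducibleSpace_and_isReduced _).mpr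
    ⟨⟨inferInstance⟩, inferInstance⟩
  let := (isField_of_isIntegral_of_subsingleton U.left).toField
  let aU : Algebra k Γ(U.left, ⊤) :=
    ((Scheme.ΓSpecIso (CommRingCat.of k)).inv ≫ U.hom.appTop).hom.toAlgebra
  let aT : Algebra k Γ(T.left, ⊤) :=
    ((Scheme.ΓSpecIso (CommRingCat.of k)).inv ≫ T.hom.appTop).hom.toAlgebra
  have hft : RingHom.FiniteType (U.hom.appTop).hom :=
    (HasRingHomProperty.iff_of_isAffine (P := @LocallyOfFiniteType)).1 inferInstance
  have : Algebra.FiniteType k Γ(U.left, ⊤) :=
    RingHom.finiteType_algebraMap.1 (hft.comp (RingHom.FiniteType.of_surjective _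
      (Scheme.ΓSpecIso (CommRingCat.of k)).symm.commRingCatIsoToRingEquiv.surjective))
  have : Module.Finite k Γ(U.left, ⊤) := finite_of_finite_type_of_isJacobsonRing k _
  let alg : ∀ f : T ⟶ U, Γ(U.left, ⊤) →ₐ[k] Γ(T.left, ⊤) := fun f =>
    { f.left.appTop.hom with
      commutes' := fun c => by
        show (U.hom.appTop ≫ f.left.appTop) _ = T.hom.appTop _
        rw [← Scheme.Hom.comp_appTop, Over.w f] }
  have key : alg f = alg g := algHom_eq e.left.appTop.hom
    (fun x hx => Groth.Agent.GlobFun18.idem_eq_zero_or_one hx) _ _ (RingHom.ext fun x => by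
      have h' := congrArg (fun m : U ⟶ U => m.left.appTop x) h
      simp only [Over.comp_left, Scheme.Hom.comp_appTop, CommRingCat.comp_apply] at h'
      exact h')
  ext1
  refine ext_of_isAffine ?_
  ext x
  exact AlgHom.congr_fun key x

/-- A connected smooth group acts trivially on a reduced zero-dimensional scheme. -/
theorem act_eq_snd (G Z : Over (Spec (CommRingCat.of k))) [GrpObj G] [Smooth G.hom]
    [ConnectedSpace ↥G.left] [LocallyOfFiniteType Z.hom] [IsReduced Z.left] [DiscreteTopology ↥Z.left]
    (a : AlgGrp.Action G Z) : a.act = snd G Z := by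
  have := Groth.Agent.AbRigid.geometricallyIrreducible_of_connected G
  have : GeometricallyConnected G.hom := ⟨fun L _ y W fst snd hsq => by
    have : IrreducibleSpace ↥W := GeometricallyIrreducible.geometrically_irreducibleSpace (f := G.hom) y fst snd hsq
    infer_instance⟩
  let 𝒰 : Z.left.OpenCover := Z.left.openCoverOfIsOpenCover
    (fun x : Z.left => ⟨{x}, isOpen_discrete _⟩) (.mk (by ext; simp))
  ext1
  refine Scheme.Cover.hom_ext (𝒰.pullback₁ (snd G Z).left) _ _ fun z => ?_
  let U : Over (Spec (CommRingCat.of k)) := Over.mk (𝒰.f z ≫ Z.hom)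
  let j : U ⟶ Z := Over.homMk (𝒰.f z) rfl
  have : IsOpenImmersion j.left := inferInstanceAs (IsOpenImmersion (𝒰.f z))
  have hsub : Subsingleton ↥U.left := inferInstanceAs (Subsingleton ({z} : Set Z.left))
  have hne : Nonempty ↥U.left := ⟨(⟨z, rfl⟩ : ({z} : Set Z.left))⟩
  have : IsReduced U.left := isReduced_of_isOpenImmersion (𝒰.f z)
  have : LocallyOfFiniteType U.hom := inferInstanceAs (LocallyOfFiniteType (𝒰.f z ≫ Z.hom))
  have : DiscreteTopology ↥U.left := j.left.isOpenEmbedding.discreteTopology
  have : IsAffine U.left := inferInstance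
  have : ConnectedSpace ↥U.left := ⟨‹_›⟩
  let T := G ⊗ U
  have : IsReduced T.left :=
    Groth.Agent.AlgSpDescent.isReduced_of_smooth (pullback.snd G.hom U.hom)
  have : ConnectedSpace ↥T.left := inferInstanceAs (ConnectedSpace ↥(pullback G.hom U.hom))
  let e : U ⟶ T := lift (toUnit U ≫ η) (𝟙 U)
  have he : e ≫ (G ◁ j) ≫ a.act = j := by
    rw [lift_whiskerLeft_assoc, Category.id_comp]
    exact (congrArg (fun q => lift q j ≫ a.act) (Hom.one_def (X := U) (M := G)).symm).trans
      (Groth.Agent.AlgGrpBasic19.act_one a j)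
  let F := (G ◁ j) ≫ a.act
  have hrange : Set.range F.left ⊆ Set.range j.left := by
    obtain ⟨u⟩ := hne
    rintro _ ⟨t, rfl⟩
    refine ⟨u, ?_⟩
    have h1 : (e ≫ F).left u = j.left u := by rw [he]
    rw [Over.comp_left, Scheme.Hom.comp_apply] at h1
    rw [← h1]
    exact (isPreconnected_range F.left.continuous).subsingleton ⟨e.left u, rfl⟩ ⟨t, rfl⟩
  let f : T ⟶ U := Over.homMk (IsOpenImmersion.lift j.left F.left hrange) (by
    show IsOpenImmersion.lift j.left F.left hrange ≫ j.left ≫ Z.hom = _
    rw [IsOpenImmersion.lift_fac_assoc, Over.w])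
  have hf : f ≫ j = F := Over.OverMorphism.ext (IsOpenImmersion.lift_fac _ _ _)
  have : Mono j := by
    have : Mono j.left := inferInstance
    exact (Over.forget _).mono_of_mono_map this
  have key : f = snd G U := hom_eq_of_section e f (snd G U) (by
    rw [← cancel_mono j, Category.assoc, hf, Category.assoc, ← whiskerLeft_snd, show e ≫ F = j from he]
    show j = e ≫ (G ◁ j) ≫ snd G Z
    rw [lift_whiskerLeft_assoc, lift_snd, Category.id_comp])
  have key' : F = (G ◁ j) ≫ snd G Z := by rw [← hf, key, whiskerLeft_snd]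
  have sq : IsPullback (G ◁ j).left (snd G U).left (snd G Z).left j.left :=
    ((Groth.Agent.AbRigid.isPullback_whiskerLeft j G).flip.map (Over.forget _))
  show pullback.fst (snd G Z).left j.left ≫ a.act.left = pullback.fst (snd G Z).left j.left ≫ (snd G Z).left
  rw [← sq.isoPullback_inv_fst, Category.assoc, Category.assoc]
  exact congrArg (fun m : T ⟶ Z => sq.isoPullback.inv ≫ m.left) key'

end RigidFld19
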